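import Groth.Agent.Lib.SmoothUnivOpen4.Basic
import Groth.Agent.S4939
import Groth.Agent.S2595
import Groth.Agent.Lib.IntMult4.Regular
import Mathlib

/-!
# Smoothness from equidimensionality over a geometrically unibranch point
-/

set_option autoImplicit false
set_option backward.isDefEq.respectTransparency false
universe u

open CategoryTheory CategoryTheory.Limits AlgebraicGeometry

noncomputable section

namespace Groth.Agent.SmoothEquidim4

open SmoothUnivOpen4

attribute [local instance] SmoothUnivOpen4.quotAlgebra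

variable {X Y : Scheme.{u}} (f : X ⟶ Y) (x : X)

theorem smooth_nhd_iff [IsLocallyNoetherian Y] [LocallyOfFiniteType f]
    (hred : _root_.IsReduced (Y.presheaf.stalk (f x))) (hgu : CAlg2.IsGeomUnibranch (Y.presheaf.stalk (f x))) :
    (∃ U : X.Opens, x ∈ U ∧ Smooth (U.ι ≫ f)) ↔
      EGA43.IsEquidimAt f x ∧
        CAlg.IsGeometricallyRegular (BaseField f x)
          (X.presheaf.stalk x ⧸ (IsLocalRing.maximalIdeal (Y.presheaf.stalk (f x))).map (f.stalkMap x).hom) := by
  haveI : LocallyOfFinitePresentation f := GrothLib.LocProp.locallyOfFinitePresentation_of_isLocallyNoetherian f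
  let F := f.fiber (f x)
  let z : F := f.asFiber x
  have hz : f.fiberι (f x) z = x := f.fiberι_asFiber x
  haveI : LocallyOfFinitePresentation (f.fiberToSpecResidueField (f x)) :=
    MorphismProperty.pullback_snd f _ inferInstance
  constructor
  · rintro ⟨U, hxU, hU⟩
    have hsm : z ∈ (f.fiberToSpecResidueField (f x)).smoothLocus := by
      rw [← GrothLib.LocProp.smooth_nhd_iff]
      exact GrothLib.LocProp.nhd_of_isPullback (W := @Smooth)
        (IsPullback.of_hasPullback f (Y.fromSpecResidueField (f x))) z ⟨U, hz.symm ▸ hxU, hU⟩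
    refine ⟨?_, (mem_smoothLocus_iff f x z hz).mp hsm⟩
    refine Groth.Agent.S2595.result f x ?_ ?_
    · haveI := hU
      exact (GrothLib.LocProp.stalkMap_comp_ι_iff RingHom.Flat.respectsIso U.ι f ⟨x, hxU⟩).mp
        (Flat.stalkMap (U.ι ≫ f) ⟨x, hxU⟩)
    · haveI := Lib.AlgMisc.GeomRegAt.isRegularLocalRing_stalk_of_mem_smoothLocus
        (k := BaseField f x) (f.fiberToSpecResidueField (f x)) hsm
      exact GrothLib.IntMult4.isCohenMacaulayLocalRing
  · rintro ⟨heq, hreg⟩
    have hnhd : ∃ V : F.Opens, z ∈ V ∧ Smooth (V.ι ≫ f.fiberToSpecResidueField (f x)) :=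
      (GrothLib.LocProp.smooth_nhd_iff _ z).mpr ((mem_smoothLocus_iff f x z hz).mpr hreg)
    have h02 := (Groth.Agent.S4939.result f x hgu).out 0 2 rfl rfl
    have hopen := (h02.mp heq).2
    refine GrothLib.EtLocal.smooth_nhd_of_flat_of_fibre_nhd f x
      (Groth.Agent.S2561.result f x hopen (fun K _ _ w hw => ?_) hred) z hz hnhd
    let g := Spec.map (CommRingCat.ofHom (algebraMap (BaseField f x) K))
    haveI : LocallyOfFinitePresentation (pullback.snd (f.fiberToSpecResidueField (f x)) g) :=
      MorphismProperty.pullback_snd _ _ inferInstance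
    obtain ⟨V, hzV, hV⟩ := hnhd
    have hw' : w ∈ (pullback.snd (f.fiberToSpecResidueField (f x)) g).smoothLocus := by
      rw [← GrothLib.LocProp.smooth_nhd_iff]
      exact GrothLib.LocProp.nhd_of_isPullback (W := @Smooth)
        (IsPullback.of_hasPullback (f.fiberToSpecResidueField (f x)) g) w ⟨V, hw.symm ▸ hzV, hV⟩
    haveI := Lib.AlgMisc.GeomRegAt.isRegularLocalRing_stalk_of_mem_smoothLocus _ hw'
    haveI : IsDomain ((pullback (f.fiberToSpecResidueField (f x)) g).presheaf.stalk w) :=
      GrothLib.CMFree.isDomain_of_isRegularLocalRing _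
    exact (inferInstance : _root_.IsReduced ((pullback (f.fiberToSpecResidueField (f x)) g).presheaf.stalk w))

end Groth.Agent.SmoothEquidim4
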